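import Cfsg.Agent.Lib.Comp.Fast

set_option maxRecDepth 100000
set_option Elab.async false

namespace Cfsg.Lib.Comp.U43x

universe u

def iv : ℕ → ℕ := (fun x => look (nat_lit 0xffef7cefae78df6d74cf2c70beeb6caeaa689e69648e28607de75c6da6585d65544d24503ce34c2ca2091c6143101080) 6 x)

noncomputable def R : List (List ℕ × ℕ) := [([1],2),
 ([5],1),
 ([3],2),
 ([1,5],1),
 ([3,5],1),
 ([1,3,2,4],0),
 ([6],1),
 ([7],1),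
 ([1,6],1),
 ([3,7],1),
 ([5,6],2),
 ([5,7],2),
 ([6,7],2),
 ([5,6,7],1),
 ([1,3,6,3,6,7,1,7],0),
 ([8],3),
 ([1,3,8,2,8,5],0),
 ([1,8,7,6,9,4],0),
 ([1,5,6,5,9,9],0),
 ([10],1),
 ([5,10],1),
 ([6,10],2),
 ([7,10],2),
 ([8,10],2),
 ([3,5,9,10],1),
 ([11],1),
 ([5,11],1),
 ([3,11],2),
 ([6,11],2),
 ([3,11,7],1),
 ([1,11],3),
 ([8,11],3),
 ([10,11],3),
 ([7,11],3),
 ([1,11,10,4,11,4,10,11],0),
 ([1,9,11],2),
 ([1,2],0),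
 ([3,4],0),
 ([8,9],0)]

def L : List ℕ := [1,2,3,4,5,6,7,8,9,10,11]

end Cfsg.Lib.Comp.U43x
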