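import Cfsg.Agent.Lib.Comp.Sc
import Cfsg.Agent.Lib.Comp.U43x.Main

set_option maxRecDepth 100000
set_option Elab.async false

namespace Cfsg.Lib.Comp.U43x

universe u

noncomputable def c7n_1 : Net :=
 (Net.cons 64 (nat_lit 0x7d7ba98cdc906240)
 (Net.cons 32 (nat_lit 0x6081d3f0000000006a22a12e)
 (Net.cons 16 (nat_lit 0x35480000e0460000ad4200004898)
 (Net.cons 8 (nat_lit 0x2c0004005000240062001400c00088)
 (Net.cons 4 (nat_lit 0x20000080a000e040c00040002000400)
 (Net.cons 2 (nat_lit 0x2002000020000000000000202000020)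
 (Net.cons 1 (nat_lit 0x1544411510541410500501151440141)
 (Net.cons 2 (nat_lit 0x10201212020001310120120212111010)
 (Net.cons 4 (nat_lit 0x2080d0e09030a0f08040a090f000d04)
 (Net.cons 8 (nat_lit 0xd0044001900af0086002c000100b9)
 (Net.cons 16 (nat_lit 0x54e80000ef7800004f6400004a5d)
 (Net.cons 32 (nat_lit 0x59ab987e000000006826e33d)
 (Net.cons 64 (nat_lit 0x7d7b91cffb6b0420)
 Net.nil)))))))))))))

noncomputable def c7n_2 : Net :=
 (Net.cons 64 (nat_lit 0x2141f91880fc04d4)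
 (Net.cons 32 (nat_lit 0xd4733b02000000000dd9d770)
 (Net.cons 16 (nat_lit 0xab8800008282000025a800001950)
 (Net.cons 8 (nat_lit 0xc0086004c00540042001000540000)
 (Net.cons 4 (nat_lit 0x800000000000800000e0c0a040c0408)
 (Net.cons 2 (nat_lit 0x200200220202022002000020200000)
 (Net.cons 1 (nat_lit 0x41401450410154014051055015401004)
 (Net.cons 2 (nat_lit 0x30021320010022133220132021221020)
 (Net.cons 4 (nat_lit 0x30605010e000d0c0d0e09010e080801)
 (Net.cons 8 (nat_lit 0xf400a600450068005c00d600320098)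
 (Net.cons 16 (nat_lit 0x8ee900008ac2000063d200005d5a)
 (Net.cons 32 (nat_lit 0xd5327c880000000013eb9802)
 (Net.cons 64 (nat_lit 0x2141ec6b21033ab6)
 Net.nil)))))))))))))

noncomputable def c7n_4 : Net :=
 (Net.cons 64 (nat_lit 0xcd4f0986d9a16628)
 (Net.cons 32 (nat_lit 0x58ffa02a000000007461f198)
 (Net.cons 16 (nat_lit 0xacbe000092980000da2800002864)
 (Net.cons 8 (nat_lit 0xd000c4000a006e0026005000520028)
 (Net.cons 4 (nat_lit 0xa060e0e0e0c0c000e0c020c080e0402)
 (Net.cons 2 (nat_lit 0x200002020202200020000000020)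
 (Net.cons 1 (nat_lit 0x41400141141545411451040541104010)
 (Net.cons 2 (nat_lit 0x33201203320212001031330123122)
 (Net.cons 4 (nat_lit 0x2050706080d04020e0f050c0a0c0c09)
 (Net.cons 8 (nat_lit 0xe9008300cb002a0076006400c2000e)
 (Net.cons 16 (nat_lit 0x78c80000d19b0000ec3900009978)
 (Net.cons 32 (nat_lit 0x98bdf482000000007471e540)
 (Net.cons 64 (nat_lit 0xcd4fa13ce32d6a97)
 Net.nil)))))))))))))

noncomputable def c7n_8 : Net :=
 (Net.cons 64 (nat_lit 0x42010b1025c0f684)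
 (Net.cons 32 (nat_lit 0x8b427f4600000000338e2ae6)
 (Net.cons 16 (nat_lit 0x85200000a41e0000518e0000f1a4)
 (Net.cons 8 (nat_lit 0x2a00fe00aa0090000c0060006e00a0)
 (Net.cons 4 (nat_lit 0x402040004020c0006020000000a02)
 (Net.cons 2 (nat_lit 0x202000020000002202220000020)
 (Net.cons 1 (nat_lit 0x1045101545114505104401111505410)
 (Net.cons 2 (nat_lit 0x20020223023032013012012033203000)
 (Net.cons 4 (nat_lit 0x604070c0a05040905080a0b0f050106)
 (Net.cons 8 (nat_lit 0x2900a700ba009500980068005e0094)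
 (Net.cons 16 (nat_lit 0xce210000922b000069280000a8fe)
 (Net.cons 32 (nat_lit 0x894341fb000000009e14793e)
 (Net.cons 64 (nat_lit 0x420145014f0073e4)
 Net.nil)))))))))))))

noncomputable def c7n_10 : Net :=
 (Net.cons 64 (nat_lit 0xc4ff9eb1cd056ec)
 (Net.cons 32 (nat_lit 0x40051c4a0000000079512726)
 (Net.cons 16 (nat_lit 0xf6ba0000eb4c0000d43800003da0)
 (Net.cons 8 (nat_lit 0x3e004600f400b000660012008a0034)
 (Net.cons 4 (nat_lit 0x80c0400040c0408080e0e0e0800020c)
 (Net.cons 2 (nat_lit 0x20000202022020020002202000200200)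
 (Net.cons 1 (nat_lit 0x40150401411541041054144554140404)
 (Net.cons 2 (nat_lit 0x32230003120200233031003123203212)
 (Net.cons 4 (nat_lit 0xe0f00040c00050a0005070a0a000700)
 (Net.cons 8 (nat_lit 0x2a00020034008c0057000100a400a4)
 (Net.cons 16 (nat_lit 0xf6f90000d5d00000e74800005d28)
 (Net.cons 32 (nat_lit 0x48050b32000000005bf11e52)
 (Net.cons 64 (nat_lit 0xc4fb1b92f5dbdaa)
 Net.nil)))))))))))))

noncomputable def c7n_12 : Net :=
 (Net.cons 64 (nat_lit 0xfff0000000000000)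
 (Net.cons 32 (nat_lit 0xfffc00000000000000000000)
 (Net.cons 16 (nat_lit 0xb0000000197e0000c004000090e4)
 (Net.cons 8 (nat_lit 0xfc00600098007600c000f000000022)
 (Net.cons 4 (nat_lit 0x2000a080c060c0200040000080c080a)
 (Net.cons 2 (nat_lit 0x20202000020000000002200002)
 (Net.cons 1 (nat_lit 0x40545011141411540001000411115054)
 (Net.cons 2 (nat_lit 0x3200102310103020001310303031100)
 (Net.cons 4 (nat_lit 0xd00010402040d02000c0b0007090404)
 (Net.cons 8 (nat_lit 0xf0008500c700c500c000c000000082)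
 (Net.cons 16 (nat_lit 0x70000000f43e0000c00b000097d8)
 (Net.cons 32 (nat_lit 0xfffc00000000000000000000)
 (Net.cons 64 (nat_lit 0xfff0000000000000)
 Net.nil)))))))))))))

noncomputable def c7n_14 : Net :=
 (Net.cons 64 (nat_lit 0x7dd0000000000000)
 (Net.cons 32 (nat_lit 0xfdfc00000000000000000000)
 (Net.cons 16 (nat_lit 0xc23200003448000057180000f4e2)
 (Net.cons 8 (nat_lit 0x480008009200040042004200400044)
 (Net.cons 4 (nat_lit 0xa000c0c0a00020a020a0406060a040c)
 (Net.cons 2 (nat_lit 0x202022000200000000020202220000)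
 (Net.cons 1 (nat_lit 0x15144441010114051010044141145140)
 (Net.cons 2 (nat_lit 0x12103033310202110020020023231232)
 (Net.cons 4 (nat_lit 0x306040c0201030f030e06060c0e0b06)
 (Net.cons 8 (nat_lit 0xa200ec00d20004004600c200f10096)
 (Net.cons 16 (nat_lit 0xf612000034480000571800001d82)
 (Net.cons 32 (nat_lit 0xfdfc00000000000000000000)
 (Net.cons 64 (nat_lit 0x7dd0000000000000)
 Net.nil)))))))))))))

noncomputable def c7n_16 : Net :=
 (Net.cons 64 (nat_lit 0xfc00000000000000)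
 (Net.cons 32 (nat_lit 0xfc4000000000000000000000)
 (Net.cons 16 (nat_lit 0xffc00000c00000000000)
 (Net.cons 8 (nat_lit 0xd0000600f800740030000000b40000)
 (Net.cons 4 (nat_lit 0x8000e0808080c020c02040008000008)
 (Net.cons 2 (nat_lit 0x2000000000000220020220002020)
 (Net.cons 1 (nat_lit 0x40404000411551051444111144041410)
 (Net.cons 2 (nat_lit 0x103213232212200001102000210100)
 (Net.cons 4 (nat_lit 0xc00030b0e0b0e0f0d02040007080008)
 (Net.cons 8 (nat_lit 0xd00013001c00fa0072000000c80000)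
 (Net.cons 16 (nat_lit 0xffc00000c00000000000)
 (Net.cons 32 (nat_lit 0xfc4000000000000000000000)
 (Net.cons 64 (nat_lit 0xfc00000000000000)
 Net.nil)))))))))))))

noncomputable def c7n_18 : Net :=
 (Net.cons 64 (nat_lit 0xd800000000000000)
 (Net.cons 32 (nat_lit 0xf80000000000000000000000)
 (Net.cons 16 (nat_lit 0xffc00000800000000000)
 (Net.cons 8 (nat_lit 0x300050005c00e4000000900000)
 (Net.cons 4 (nat_lit 0xa00020004000404000000000008)
 (Net.cons 2 (nat_lit 0x2220020000000000000)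
 (Net.cons 1 (nat_lit 0x50004155105404140041045555555500)
 (Net.cons 2 (nat_lit 0x30000000000012110120000333033330)
 (Net.cons 4 (nat_lit 0xa000c020c0f060c020006000008)
 (Net.cons 8 (nat_lit 0x300063005c00e4000000900000)
 (Net.cons 16 (nat_lit 0xffc00000800000000000)
 (Net.cons 32 (nat_lit 0xf80000000000000000000000)
 (Net.cons 64 (nat_lit 0xd800000000000000)
 Net.nil)))))))))))))

noncomputable def c7n_19 : Net :=
 (Net.cons 16 (nat_lit 0xb0000000800000000000)
 (Net.cons 8 (nat_lit 0xc0004c003200a0000000b80000)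
 (Net.cons 4 (nat_lit 0x20000040406040002080000)
 (Net.cons 2 (nat_lit 0x222000000000000200200002020)
 (Net.cons 1 (nat_lit 0x5144015555401550154445444440)
 (Net.cons 2 (nat_lit 0x3110322222233213112030320230)
 (Net.cons 4 (nat_lit 0x9000b0808020a0d090001040000)
 (Net.cons 8 (nat_lit 0xa000a6009900c0000000d40000)
 (Net.cons 16 (nat_lit 0xd0000000400000000000)
 Net.nil)))))))))

noncomputable def c7n : List Net := [Net.nil,
 c7n_1,
 c7n_2,
 Net.rev c7n_2,
 c7n_4,
 Net.rev c7n_4,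
 Net.nil,
 Net.nil,
 c7n_8,
 Net.rev c7n_8,
 c7n_10,
 Net.rev c7n_10,
 c7n_12,
 Net.rev c7n_12,
 c7n_14,
 Net.rev c7n_14,
 c7n_16,
 Net.rev c7n_16,
 c7n_18,
 c7n_19,
 Net.rev c7n_19]

theorem c7n_ok : NetsOK 128 c7n := netsOK_of (by decide +kernel)

noncomputable def c7pi : Net :=
 (Net.cons 64 (nat_lit 0x9aa6bbb1445efd38)
 (Net.cons 32 (nat_lit 0x1df3468000000000f9878d78)
 (Net.cons 16 (nat_lit 0xb6880000971e0000a330000092d2)
 (Net.cons 8 (nat_lit 0xca00f000de00f00090005c00ca0022)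
 (Net.cons 4 (nat_lit 0x8000c060a0a00020a0208000002080c)
 (Net.cons 2 (nat_lit 0x22000000000022000022002000000)
 (Net.cons 1 (nat_lit 0x50144450051440111514011454504051)
 (Net.cons 2 (nat_lit 0x23013120231002130213022201202031)
 (Net.cons 4 (nat_lit 0xf02060601000a0f06090d0105030809)
 (Net.cons 8 (nat_lit 0xf000b0005c001200f70055000a004e)
 (Net.cons 16 (nat_lit 0x257a000057b4000053e2000095e3)
 (Net.cons 32 (nat_lit 0x9575573b00000000d8c6b06b)
 (Net.cons 64 (nat_lit 0x9aa671d48d91da06)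
 Net.nil)))))))))))))

theorem c7pi_ok : c7pi.ok 128 := ok_of_netOK (by decide +kernel)

def c7L : List ℕ := [1,2,3,4,5,8,9,10,11,12,13,14,15,16,17,18,19,20]

noncomputable def c7C : List Lev := [([8,9,10,11,12,13,14,15,16,17,18,19,20],[2,2,4,8,12,19,4,2,10,4],0,0,112),
 ([12,13,14,15,16,17,18,19,20],[8,10,8,16,14,8,12,10,12],1,1,81),
 ([16,17,18,19,20],[12,14,12,14,19,18,14],2,2,30),
 ([19,20],[16,16,18],3,3,4),
 ([],[19,19],4,4,3)]

noncomputable def c7D : List (ℕ × List ℕ) := [(3,[2,2,2,2,2,2]),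
 (5,[4,4,4,4,4,4,4,4]),
 (8,[2,5,5,3,5,2,2]),
 (9,[3,3,4,2,4,4,3]),
 (10,[2,2,5,5,3,4,3,4]),
 (11,[5,2,5,2,4,4,3,3]),
 (12,[9,10,9,10,8,11]),
 (13,[10,9,11,8,11,8]),
 (14,[10,9,10,9,10,9,9,9]),
 (15,[8,8,8,11,8,11,8,11]),
 (16,[15,13,13,15,12]),
 (17,[13,14,12,12,14]),
 (18,[15,12,14,12,15]),
 (19,[18,16]),
 (20,[17,18]),
 (1,[20,17,14,12,9,17,3,16,5])]

theorem c7_le : cl (gp c7n) c7L ≤ cl (gp c7n) [2,4] := by
  rw [← cl_eq_of_slpB (k := 7) (D := c7D) (L := [2,4]) c7n_ok (by norm_num) (by decide +kernel)]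
  exact cl_mono (sub_of_subB (by decide +kernel))

theorem c7_m2 : gp c7n 2 ∈ (cl (gp nets) L).map (MulAut.conj c7pi.perm).toMonoidHom :=
  mem_conj_of_eqB (k := 7) (w := [2,3,6,3,5,10,7,1,11,4,9,10]) nets_ok (by norm_num) c7pi_ok (c7n_ok 2) (fun _ => mem_all) (by decide +kernel)

theorem c7_m4 : gp c7n 4 ∈ (cl (gp nets) L).map (MulAut.conj c7pi.perm).toMonoidHom :=
  mem_conj_of_eqB (k := 7) (w := [2,4,5,6,4,6,10,2,9,11,10,2,4]) nets_ok (by norm_num) c7pi_ok (c7n_ok 4) (fun _ => mem_all) (by decide +kernel)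

theorem c7_conj : cl (gp c7n) c7L ≤ (cl (gp nets) L).map (MulAut.conj c7pi.perm).toMonoidHom :=
  c7_le.trans (cl_le.2 (by simp only [List.forall_mem_cons]; exact ⟨c7_m2, c7_m4, by simp⟩))

theorem c7_ch : Nat.beq (chainB c7n c7C c7L) 3265920 = true := by decide +kernel

theorem c7_ex : Exact c7n c7C c7L := by
  have := nets_ok.finite L
  exact exact_of_beq ((card_le_of_conj c7_conj).trans card.le) c7_ch

noncomputable def c7t (x p : ℕ) : ℕ := ptInv (nth Net.nil c7n x) p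

theorem c7t_ok : TbA c7n c7t := tbA_pt c7n_ok

noncomputable def c7par0 : ℕ := (nat_lit 0x24310814414214414c0830c31040c508e3040c414308234b30435230b30e34f30a30e49150e34351314808944228324810f2c90c82cd3cb2ca08410928d4d125050424c39008934809340234c2083c214b348100)

noncomputable def c7par1 : ℕ := (nat_lit 0x124524c850a3d32502095133cd38b50a45234c3903d230938b4d12103c828a24828920924834f2882512cc38820920c28d28c28a24934828b2d434c240)

noncomputable def c7par2 : ℕ := (nat_lit 0x34e40f3d344c40e51350d38f35231030d38f30d311300)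

noncomputable def c7par3 : ℕ := (nat_lit 0x4d0440)

noncomputable def c7par4 : ℕ := (nat_lit 0x144c0)

noncomputable def c7P : List (ℕ → ℕ) := [(fun p => look2 c7par0 6 256 (Nat.sub p 0)),
 (fun p => look2 c7par1 6 256 (Nat.sub p 1)),
 (fun p => look2 c7par2 6 256 (Nat.sub p 2)),
 (fun p => look2 c7par3 6 256 (Nat.sub p 3)),
 (fun p => look2 c7par4 6 256 (Nat.sub p 4))]

noncomputable def c7xM : ℕ := (nat_lit 0x80250a76780)

theorem c7x_b : centB c7n c7t c7C c7L 1 0 0 112 [0,1,2,3,4] [] [1] [1,1,1,1,1,1] c7xM = true := by decide +kernel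

noncomputable def c7xF (q : ℕ) : Bool := sift c7t (fun e => witer c7t [1] e q) [] c7C c7P c7L [0,1,2,3,4] []

theorem c7xA_0 : AllM c7xM 256 c7xF :=
  AllM.step (lo := 0) (m := 1) (AllM.zero _ _) (by decide +kernel)

theorem c7x_c : ∀ c ∈ cl (gp c7n) c7L, Commute c (gp c7n 1) → c ∈ cl (gp c7n) [1] := fun _ hc hz =>
  Exact.cent c7n_ok c7t_ok c7_ex c7x_b c7xA_0 (by norm_num) (by norm_num) hc hz

theorem sc7 {Γ : Type*} [Group Γ] (e : Γ ≃* cl (gp nets) L) :
    ∃ x : Γ, orderOf x = 7 ∧ ∀ c, Commute c x → c ∈ Subgroup.zpowers x := by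
  have := nets_ok.finite L
  have : Fact (Nat.Prime 7) := ⟨by norm_num⟩
  obtain ⟨φ, h1, h2⟩ := relabel e _ c7_conj (card.trans_le (lb_of_chainB c7n_ok c7_ch))
  exact sc_of_cent h1 h2 (mem_cl (by decide +kernel)) (orderOf_eq_prime (by
    simpa [ev] using c7_ex.eq c7n_ok c7t_ok (u := [1]) (e := 7) (w := []) (by decide +kernel))
    (by simpa [ev] using ne_of_wap c7t_ok (u := [1]) (w := []) (p := 0) (by decide +kernel))) c7x_c

end Cfsg.Lib.Comp.U43x
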