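import Cfsg.Agent.Lib.Comp.U43x.Main
import Cfsg.Agent.Lib.MatB.Fam
import Cfsg.Agent.S0280

set_option maxRecDepth 100000
set_option Elab.async false

namespace Cfsg.Lib.Comp.U43x

open Cfsg.Lib.MatB Matrix

universe u

def mT0 : List ℕ := [nat_lit 0x1, nat_lit 0x80, nat_lit 0x4000, nat_lit 0x200000, nat_lit 0x10000000, nat_lit 0x800000000, nat_lit 0x40000000000, nat_lit 0x2000000000000]
def mT1 : List ℕ := [nat_lit 0x4081010004102, nat_lit 0x4040810400082, nat_lit 0x41010000001, nat_lit 0x2000810000100, nat_lit 0x41020204082, nat_lit 0x4000820208102, nat_lit 0x10008082, nat_lit 0x1000400102]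
def mT2 : List ℕ := [nat_lit 0x4081020004102, nat_lit 0x4041010400082, nat_lit 0x81010000001, nat_lit 0x4000810000100, nat_lit 0x41020204081, nat_lit 0x4000820208082, nat_lit 0x10004082, nat_lit 0x1000200102]
def mT3 : List ℕ := [nat_lit 0x80020408000, nat_lit 0x2001000404000, nat_lit 0x80010000082, nat_lit 0x4001000000102, nat_lit 0x4080000004001, nat_lit 0x4040000400080, nat_lit 0x820004002, nat_lit 0x1020200080]
def mT4 : List ℕ := [nat_lit 0x80010408000, nat_lit 0x2000800404000, nat_lit 0x40010000082, nat_lit 0x2001000000102, nat_lit 0x4080000004002, nat_lit 0x4040000400100, nat_lit 0x820008002, nat_lit 0x1020400080]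
def mT5 : List ℕ := [nat_lit 0x4041000000080, nat_lit 0x4041020404002, nat_lit 0x80810000100, nat_lit 0x4001020000080, nat_lit 0x800208080, nat_lit 0x4040020208081, nat_lit 0x1000004102, nat_lit 0x800200081]
def mT6 : List ℕ := [nat_lit 0x4080010008000, nat_lit 0x4000800404000, nat_lit 0x80020000101, nat_lit 0x4001020000080, nat_lit 0x80000204002, nat_lit 0x4040000200100, nat_lit 0x1010004001, nat_lit 0x800200081]
def mT7 : List ℕ := [nat_lit 0x4040010200000, nat_lit 0x2040800004000, nat_lit 0x80810000100, nat_lit 0x4000820000002, nat_lit 0x2000000208002, nat_lit 0x40000408100, nat_lit 0x1000004102, nat_lit 0x20200101]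
def mT8 : List ℕ := [nat_lit 0x2000020200002, nat_lit 0x800400082, nat_lit 0x2081010208001, nat_lit 0x2041010204001, nat_lit 0x2000020400001, nat_lit 0x4000820000100, nat_lit 0x2080010404082, nat_lit 0x2040010408082]
def mT9 : List ℕ := [nat_lit 0x4080010204102, nat_lit 0x2041000000080, nat_lit 0x4040000208000, nat_lit 0x4080020204101, nat_lit 0x2041020204002, nat_lit 0x800408080, nat_lit 0x2080000208000, nat_lit 0x2041010204001]
def mT10 : List ℕ := [nat_lit 0x4000000004081, nat_lit 0x2080000200001, nat_lit 0x800408001, nat_lit 0x1010008080, nat_lit 0x40810200000, nat_lit 0x2000010404000, nat_lit 0x4080010000100, nat_lit 0x80800000082]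
def mT11 : List ℕ := [nat_lit 0x4000810200000, nat_lit 0x4040010200000, nat_lit 0x4040800200000, nat_lit 0x2081020008102, nat_lit 0x2000000200102, nat_lit 0x2000000208002, nat_lit 0x2000000208100, nat_lit 0x81020404081]
def mT12 : List ℕ := [nat_lit 0x1010208080, nat_lit 0x2040820408081, nat_lit 0x2000800004102, nat_lit 0x2000800008102, nat_lit 0x2080800000082, nat_lit 0x4080810408101, nat_lit 0x41020400100, nat_lit 0x81020400100]
def mT13 : List ℕ := [nat_lit 0x40000204081, nat_lit 0x2040000204002, nat_lit 0x2000810200101, nat_lit 0x1000204101, nat_lit 0x2040810008000, nat_lit 0x2040020408000, nat_lit 0x2001010400102, nat_lit 0x2041010000080]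
def mT14 : List ℕ := [nat_lit 0x4000000408101, nat_lit 0x4040020408000, nat_lit 0x208000, nat_lit 0x2080800408002, nat_lit 0x4081010200000, nat_lit 0x4080000208001, nat_lit 0x2080000000000, nat_lit 0x4080020404100]
def mT15 : List ℕ := [nat_lit 0x41010000101, nat_lit 0x4080010204000, nat_lit 0x2000010204001, nat_lit 0x4080820404080, nat_lit 0x1010008082, nat_lit 0x2040000204002, nat_lit 0x2040010400002, nat_lit 0x4040800204101]
def mT16 : List ℕ := [nat_lit 0x2000010404101, nat_lit 0x40810008102, nat_lit 0x81000000100, nat_lit 0x2041010400001, nat_lit 0x4041010400002, nat_lit 0x81020008102, nat_lit 0x1000004080, nat_lit 0x4000010408082]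
def mT17 : List ℕ := [nat_lit 0x2000010408102, nat_lit 0x4080000204001, nat_lit 0x4080800200081, nat_lit 0x2001010000001, nat_lit 0x4081020400002, nat_lit 0x2040010204000, nat_lit 0x2000810204100, nat_lit 0x10400082]
def mT18 : List ℕ := [nat_lit 0x4040810004080, nat_lit 0x40000204002, nat_lit 0x2040020404001, nat_lit 0x2040800208100, nat_lit 0x40800208102, nat_lit 0x2040020008000, nat_lit 0x4040010408001, nat_lit 0x2081000408100]
def mT19 : List ℕ := [nat_lit 0x41020208081, nat_lit 0x40000200001, nat_lit 0x2040010204081, nat_lit 0x81020000001, nat_lit 0x2080810008081, nat_lit 0x2000010008000, nat_lit 0x2040810408002, nat_lit 0x10004081]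
def mT20 : List ℕ := [nat_lit 0x4000010008101, nat_lit 0x2080820004101, nat_lit 0x40020404001, nat_lit 0x81010208002, nat_lit 0x81010200002, nat_lit 0x41010404101, nat_lit 0x4040010008001, nat_lit 0x2080020004082]
def mT21 : List ℕ := [nat_lit 0x40020008081, nat_lit 0x4000000000001, nat_lit 0x4080800400002, nat_lit 0x10404002, nat_lit 0x80810008001, nat_lit 0x10200000, nat_lit 0x4000020204100, nat_lit 0x4040020000002]
def mT22 : List ℕ := [nat_lit 0x4040000408100, nat_lit 0x2040000000000, nat_lit 0x10400000, nat_lit 0x4080810008102, nat_lit 0x4081000208000, nat_lit 0x408000, nat_lit 0x4000000000002, nat_lit 0x81020204102]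
def mT23 : List ℕ := [nat_lit 0x4041010208081, nat_lit 0x4000820004001, nat_lit 0x820004100, nat_lit 0x4040020404101, nat_lit 0x2080810208082, nat_lit 0x40010200101, nat_lit 0x41000000101, nat_lit 0x4041010208001]
def mT24 : List ℕ := [nat_lit 0x40000400001, nat_lit 0x2080810208102, nat_lit 0x2080000404001, nat_lit 0x2040000200080, nat_lit 0x4000010008000, nat_lit 0x2081020404102, nat_lit 0x4040010404000, nat_lit 0x2000800408000]
def mT25 : List ℕ := [nat_lit 0x80010008002, nat_lit 0x400002, nat_lit 0x4081020400001, nat_lit 0x4040000204081, nat_lit 0x80020004002, nat_lit 0x4000020000000, nat_lit 0x4000010204081, nat_lit 0x2040810208000]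
def mT26 : List ℕ := [nat_lit 0x2000810204001, nat_lit 0x4000820208101, nat_lit 0x4081000408000, nat_lit 0x80810408080, nat_lit 0x2040010400102, nat_lit 0x2081010200101, nat_lit 0x4080000204080, nat_lit 0x4080800004102]
def mT27 : List ℕ := [nat_lit 0x4080000208001, nat_lit 0x41010000082, nat_lit 0x2080000204001, nat_lit 0x2040000404102, nat_lit 0x2080010204000, nat_lit 0x820008082, nat_lit 0x2040010404000, nat_lit 0x4041020408000]
def mT28 : List ℕ := [nat_lit 0x4040020004082, nat_lit 0x81000400100, nat_lit 0x2000820008102, nat_lit 0x4000010208102, nat_lit 0x40820208001, nat_lit 0x4001000004080, nat_lit 0x81020400101, nat_lit 0x2081020200002]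
def mT29 : List ℕ := [nat_lit 0x4081010404000, nat_lit 0x2040800204100, nat_lit 0x4000820008080, nat_lit 0x4080820404080, nat_lit 0x4040000204082, nat_lit 0x2041000408100, nat_lit 0x80800200101, nat_lit 0x4040800204101]
def mT30 : List ℕ := [nat_lit 0x80800004080, nat_lit 0x2081020208100, nat_lit 0x4080800404100, nat_lit 0x4040010408002, nat_lit 0x40800004100, nat_lit 0x2081000404081, nat_lit 0x4041000204100, nat_lit 0x4080020208002]
def mT31 : List ℕ := [nat_lit 0x2081020008102, nat_lit 0x2000010208100, nat_lit 0x4081010208080, nat_lit 0x80020004081, nat_lit 0x81020404081, nat_lit 0x2081000400002, nat_lit 0x2080800204082, nat_lit 0x40810004001]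
def mT32 : List ℕ := [nat_lit 0x4080810008102, nat_lit 0x4000820200102, nat_lit 0x80810408101, nat_lit 0x4080000208002, nat_lit 0x81020204102, nat_lit 0x2001020200101, nat_lit 0x4081010004102, nat_lit 0x2080020204000]
def mT33 : List ℕ := [nat_lit 0x1020404102, nat_lit 0x8001, nat_lit 0x81020204100, nat_lit 0x2000800008101, nat_lit 0x4041020000081, nat_lit 0x80010000000, nat_lit 0x2041000004081, nat_lit 0x81010400100]
def mT34 : List ℕ := [nat_lit 0x4081020208080, nat_lit 0x4000010200102, nat_lit 0x2081020200000, nat_lit 0x80010404100, nat_lit 0x2080800204081, nat_lit 0x2001020200002, nat_lit 0x2000000404081, nat_lit 0x4041000004002]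
def mT35 : List ℕ := [nat_lit 0x810200100, nat_lit 0x4041020208100, nat_lit 0x810200080, nat_lit 0x4000010208002, nat_lit 0x2001000000102, nat_lit 0x2081000208081, nat_lit 0x2000800000102, nat_lit 0x2080020200002]
def mT36 : List ℕ := [nat_lit 0x4000010408100, nat_lit 0x2080800000080, nat_lit 0x41020000002, nat_lit 0x2040820004100, nat_lit 0x4081000200002, nat_lit 0x800404100, nat_lit 0x20008081, nat_lit 0x41000408101]
def mT37 : List ℕ := [nat_lit 0x2000010200001, nat_lit 0x40020204002, nat_lit 0x80020004082, nat_lit 0x4081020400082, nat_lit 0x2000010400002, nat_lit 0x2040020008001, nat_lit 0x40820004001, nat_lit 0x4000820204081]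
def mT38 : List ℕ := [nat_lit 0x4001010000080, nat_lit 0x4000800208100, nat_lit 0x2081010008101, nat_lit 0x41010000101, nat_lit 0x800200082, nat_lit 0x2081000200100, nat_lit 0x81010404082, nat_lit 0x1010008082]
def mT39 : List ℕ := [nat_lit 0x40800208080, nat_lit 0x810004001, nat_lit 0x2081020008080, nat_lit 0x81010404102, nat_lit 0x2080800008100, nat_lit 0x40010000102, nat_lit 0x80800404081, nat_lit 0x4041020004082]
def mT40 : List ℕ := [nat_lit 0x4081020000102, nat_lit 0x4000800404082, nat_lit 0x820208080, nat_lit 0x40010404082, nat_lit 0x1020204081, nat_lit 0x4040820200100, nat_lit 0x2080800000101, nat_lit 0x4040820008002]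
def mT41 : List ℕ := [nat_lit 0x4000810208080, nat_lit 0x41010204080, nat_lit 0x20004082, nat_lit 0x40810400081, nat_lit 0x2080800200102, nat_lit 0x2040800008082, nat_lit 0x40820000001, nat_lit 0x4000810008102]
def mT42 : List ℕ := [nat_lit 0x4040820408001, nat_lit 0x4000010204080, nat_lit 0x81010000000, nat_lit 0x4000810408082, nat_lit 0x4080010208101, nat_lit 0x2040800200002, nat_lit 0x4082, nat_lit 0x4080820200102]
def mT43 : List ℕ := [nat_lit 0x40020208002, nat_lit 0x40820208100, nat_lit 0x2081020000080, nat_lit 0x4000800000102, nat_lit 0x2080020008001, nat_lit 0x2081000008101, nat_lit 0x800404081, nat_lit 0x1020200100]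
def mT44 : List ℕ := [nat_lit 0x2, nat_lit 0x100, nat_lit 0x8000, nat_lit 0x400000, nat_lit 0x20000000, nat_lit 0x1000000000, nat_lit 0x80000000000, nat_lit 0x4000000000000]
def mT45 : List ℕ := [nat_lit 0x10000000, nat_lit 0x800000000, nat_lit 0x40000000000, nat_lit 0x2000000000000, nat_lit 0x2, nat_lit 0x100, nat_lit 0x8000, nat_lit 0x400000]
def mT46 : List ℕ := [nat_lit 0x20000000, nat_lit 0x1000000000, nat_lit 0x80000000000, nat_lit 0x4000000000000, nat_lit 0x1, nat_lit 0x80, nat_lit 0x4000, nat_lit 0x200000]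

def mtabs : List (List ℕ) := [mT0, mT1, mT2, mT3, mT4, mT5, mT6, mT7, mT8, mT9, mT10, mT11, mT12, mT13, mT14, mT15, mT16, mT17, mT18, mT19, mT20, mT21, mT22, mT23, mT24, mT25, mT26, mT27, mT28, mT29, mT30, mT31, mT32, mT33, mT34, mT35, mT36, mT37, mT38, mT39, mT40, mT41, mT42, mT43, mT44, mT45, mT46]

noncomputable def mtab : ℕ → List ℕ := nth mT0 mtabs

noncomputable def mrd : ℕ → ℕ := red 7 3 8

theorem mctx : Ctx 7 3 4 8 (QuadraticAlgebra.omega : K9) (@Fin.val 4) mrd :=
  ⟨by decide +kernel, by decide +kernel, by decide +kernel, Or.inl rfl, by decide +kernel, by norm_num, by norm_num,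
    fun _ => rfl⟩

theorem mok : ∀ x, TabOK 7 4 8 (QuadraticAlgebra.omega : K9) mrd (mtab x) := tabOK_nth (by decide +kernel)

noncomputable abbrev mM (x : ℕ) : Matrix (Fin 4) (Fin 4) K9 := tm 7 4 (QuadraticAlgebra.omega : K9) (@Fin.val 4) (mtab x)

noncomputable def mR : List (List ℕ × ℕ) := apd R (L.map fun x => ([x, iv x], 0))

theorem mside : SideOK iv R mR L := by decide +kernel

theorem mrel : relB 7 4 mrd mtab [0, 44, 45, 46] mR = true := by decide +kernel

theorem mdet : detB 7 4 mrd mtab [(1, 12, 13, 14, 15), (2, 13, 12, 15, 14), (3, 16, 17, 18, 19), (4, 17, 16, 19, 18), (5, 20, 21, 22, 23), (6, 24, 25, 26, 27), (7, 28, 29, 30, 31), (8, 32, 33, 34, 35), (9, 33, 32, 35, 34), (10, 36, 37, 38, 39), (11, 40, 41, 42, 43)] = true := by decide +kernel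

theorem muni : ∀ x ∈ L, (mM x)ᵀ * (mM x).map (· ^ 3) = 1 := by decide +kernel

theorem iso {F : Type u} [Field F] [Fintype F] (hF : Fintype.card F = 9) :
    Nonempty (cl (gp nets) L ≃* PSU 4 F 3) := by
  obtain ⟨φ⟩ := hom9 hF
  obtain ⟨σ, hσ⟩ := exists_frob φ (p := 3) (by norm_num) (by decide +kernel)
  have := simple
  have := nets_ok.finite L
  refine bridge_proj nets_iv nets_rel ord card mside φ φ.injective _ (su_inj 4 3)
    (M := mM) (fun x hx => su_mem φ hσ (mctx.det mok mdet x hx) (muni x hx)) (by decide +kernel) (mctx.rel mok mrel)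
    (x := 1) (y := 5) (by decide) (by decide) (i := 0) (j := 2) (by decide +kernel) ?_
  have h := Cfsg.Agent.S0280.result (q := 3) hF 4 (by norm_num)
  change Nat.card (PSU 4 F 3) = _
  norm_num [Finset.prod_range_succ, Fin.prod_univ_succ] at h
  omega

end Cfsg.Lib.Comp.U43x
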