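import Cfsg.Agent.Lib.Comp.U43x.MuH0_0
import Cfsg.Agent.Lib.Comp.U43x.MuH1_0
import Cfsg.Agent.Lib.Comp.U43x.MuH1_1
import Cfsg.Agent.Lib.Comp.U43x.Mu0
import Cfsg.Agent.Lib.Comp.U43x.Main
import Cfsg.Agent.Lib.Comp.Cover
import Cfsg.Agent.Lib.MatB.Mult

set_option maxRecDepth 100000
set_option Elab.async false

namespace Cfsg.Lib.Comp.U43x

universe u

theorem MuH0_0_ord : Ord.{u} iv MuH0_0_R [1,2] 3 :=
  (MuH0_0_idx.ord_base).of_cons (cons_of_subset (by decide +kernel))

noncomputable def MuH0_lb_n_1 : Net :=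
 (Net.cons 1 (nat_lit 0x2)
 (Net.cons 1 (nat_lit 0x1)
 Net.nil))

noncomputable def MuH0_lb_n : List Net := [Net.nil,
 MuH0_lb_n_1,
 Net.rev MuH0_lb_n_1]

theorem MuH0_lb_n_ok : NetsOK 3 MuH0_lb_n := netsOK_of (by decide +kernel)

theorem MuH0_lb : 3 ≤ Nat.card (cl (gp nets) [1,2]) :=
  lb_of_itwB (k := 2) (n := 3) nets_ok MuH0_lb_n_ok (by norm_num) (by norm_num) (tbA_pt nets_ok) (tbA_pt MuH0_lb_n_ok) (φ := look2 (nat_lit 0x570005600055) 20 64) (by decide +kernel) (by
    rw [← cl_eq_of_slpB (k := 2) (D := []) MuH0_lb_n_ok (by norm_num) (by decide +kernel)]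
    exact lb_of_chainB MuH0_lb_n_ok (C := [([],[1,1],0,0,3)]) (by decide +kernel))

theorem MuH1_1_ord : Ord.{u} iv MuH1_1_R [1,2] 3 :=
  (MuH1_1_idx.ord_base).of_cons (cons_of_subset (by decide +kernel))

theorem MuH1_0_ord : Ord.{u} iv MuH1_0_R [1,2,3,4] 9 :=
  (MuH1_0_idx.ord_step MuH1_1_ord).of_cons (cons_of_subset (by decide +kernel))

noncomputable def MuH1_lb_n_1 : Net :=
 (Net.cons 5 (nat_lit 0x14)
 (Net.cons 1 (nat_lit 0x4)
 (Net.cons 1 (nat_lit 0x142)
 (Net.cons 1 (nat_lit 0xa1)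
 (Net.cons 1 (nat_lit 0x40)
 (Net.cons 5 (nat_lit 0x11)
 Net.nil))))))

noncomputable def MuH1_lb_n_3 : Net :=
 (Net.cons 5 (nat_lit 0x2)
 (Net.cons 1 (nat_lit 0xa1)
 (Net.cons 1 (nat_lit 0xa)
 (Net.cons 1 (nat_lit 0x4)
 (Net.cons 1 (nat_lit 0x2)
 (Net.cons 1 (nat_lit 0x1)
 (Net.cons 5 (nat_lit 0x4)
 Net.nil)))))))

noncomputable def MuH1_lb_n : List Net := [Net.nil,
 MuH1_lb_n_1,
 Net.rev MuH1_lb_n_1,
 MuH1_lb_n_3,
 Net.rev MuH1_lb_n_3]

theorem MuH1_lb_n_ok : NetsOK 10 MuH1_lb_n := netsOK_of (by decide +kernel)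

theorem MuH1_lb : 9 ≤ Nat.card (cl (gp nets) [1,2,3,4]) :=
  lb_of_itwB (k := 4) (n := 9) nets_ok MuH1_lb_n_ok (by norm_num) (by norm_num) (tbA_pt nets_ok) (tbA_pt MuH1_lb_n_ok) (φ := look2 (nat_lit 0x340003700035000390003600038000330003200031) 20 64) (by decide +kernel) (by
    rw [← cl_eq_of_slpB (k := 4) (D := []) MuH1_lb_n_ok (by norm_num) (by decide +kernel)]
    exact lb_of_chainB MuH1_lb_n_ok (C := [([],[1,3,1,3],0,0,9)]) (by decide +kernel))

theorem Mu_mb : Cfsg.Lib.MatB.MB2 (cl (gp nets) L) 2520 12 3 :=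
  Cfsg.Lib.MatB.mb_two (w := 31) (n := 39) (La := L) (ix := nth 0 [0,0,0,0,0,1,6,7,0,0,19,25]) (by norm_num) (by norm_num) (nets_iv.sval _) (nets_rel.sval fun r hr x hx => mem_cl (sub_of_allR (by decide +kernel) r hr x hx)) (by decide +kernel)
    (TStep.trans (TStep.trans (TStep.trans (TStep.trans (TStep.trans (TStep.trans (TStep.trans (TStep.trans (TStep.trans (TStep.trans (TStep.trans (TStep.trans (TStep.trans (TStep.trans (TStep.trans (TStep.trans (TStep.trans (TStep.trans (TStep.trans (TStep.trans (TStep.trans (TStep.trans (TStep.trans (TStep.repar (k' := 31) (by norm_num) (by norm_num) (by decide +kernel) (by decide +kernel) Mu1_b)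
    (TStep.enum0 (by norm_num) (by norm_num) Mu2_0 (Gs := Mu2G) (by decide +kernel)))
    (TStep.repar (k' := 30) (by norm_num) (by norm_num) (by decide +kernel) (by decide +kernel) Mu3_b))
    (TStep.enum0 (by norm_num) (by norm_num) Mu4_0 (Gs := Mu4G) (by decide +kernel)))
    (TStep.repar (k' := 27) (by norm_num) (by norm_num) (by decide +kernel) (by decide +kernel) Mu5_b))
    (TStep.enum0 (by norm_num) (by norm_num) Mu6_0 (Gs := Mu6G) (by decide +kernel)))
    (TStep.repar (k' := 26) (by norm_num) (by norm_num) (by decide +kernel) (by decide +kernel) Mu7_b))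
    (TStep.enum0 (by norm_num) (by norm_num) Mu8_0 (Gs := Mu8G) (by decide +kernel)))
    (TStep.repar (k' := 21) (by norm_num) (by norm_num) (by decide +kernel) (by decide +kernel) Mu9_b))
    (TStep.enum0 (by norm_num) (by norm_num) Mu10_0 (Gs := Mu10G) (by decide +kernel)))
    (TStep.repar (k' := 13) (by norm_num) (by norm_num) (by decide +kernel) (by decide +kernel) Mu11_b))
    (TStep.enum0 (by norm_num) (by norm_num) Mu12_0 (Gs := Mu12G) (by decide +kernel)))
    (TStep.repar (k' := 6) (by norm_num) (by norm_num) (by decide +kernel) (by decide +kernel) Mu13_b))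
    (TStep.repar (k' := 6) (by norm_num) (by norm_num) (by decide +kernel) (by decide +kernel) Mu14_b))
    (TStep.enum (by norm_num) (by norm_num) Mu15_0 (I := [0,36]) (by decide +kernel) (by decide +kernel) MuH0_0_ord (c := 1) (lb_sval (fun _ hx => mem_cl (sub_of_subB (by decide +kernel) _ hx)) MuH0_lb (by norm_num)) (Gs := Mu15G) (by decide +kernel)))
    (TStep.repar (k' := 6) (by norm_num) (by norm_num) (by decide +kernel) (by decide +kernel) Mu16_b))
    (TStep.repar (k' := 6) (by norm_num) (by norm_num) (by decide +kernel) (by decide +kernel) Mu17_b))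
    (TStep.enum (by norm_num) (by norm_num) Mu18_0 (I := [0,2,5,36,37]) (by decide +kernel) (by decide +kernel) MuH1_0_ord (c := 1) (lb_sval (fun _ hx => mem_cl (sub_of_subB (by decide +kernel) _ hx)) MuH1_lb (by norm_num)) (Gs := Mu18G) (by decide +kernel)))
    (TStep.repar (k' := 3) (by norm_num) (by norm_num) (by decide +kernel) (by decide +kernel) Mu19_b))
    (TStep.enum (by norm_num) (by norm_num) Mu20_0 (I := [0,2,5,36,37]) (by decide +kernel) (by decide +kernel) MuH1_0_ord (c := 1) (lb_sval (fun _ hx => mem_cl (sub_of_subB (by decide +kernel) _ hx)) MuH1_lb (by norm_num)) (Gs := Mu20G) (by decide +kernel)))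
    (TStep.repar (k' := 3) (by norm_num) (by norm_num) (by decide +kernel) (by decide +kernel) Mu21_b))
    (TStep.enum (by norm_num) (by norm_num) Mu22_0 (I := [0,2,5,36,37]) (by decide +kernel) (by decide +kernel) MuH1_0_ord (c := 1) (lb_sval (fun _ hx => mem_cl (sub_of_subB (by decide +kernel) _ hx)) MuH1_lb (by norm_num)) (Gs := Mu22G) (by decide +kernel)))
    (TStep.repar (k' := 2) (by norm_num) (by norm_num) (by decide +kernel) (by decide +kernel) Mu23_b))
    (TStep.cons (by norm_num) (by norm_num) (c := (nat_lit 0x800009aa)) (v := (nat_lit 0x180000000)) (by decide +kernel) (by decide +kernel)))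
    (by decide +kernel) ord card.ge (cl_sval_top _ _)

end Cfsg.Lib.Comp.U43x
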