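import Cfsg.Agent.Lib.Comp.U43x.Mat
import Cfsg.Agent.Lib.Fi.Hom

namespace Cfsg.Lib.Comp.U43x

noncomputable abbrev Rz : List (List ℕ × ℕ) := mR

theorem pk : Fi.Pk (gp nets) iv R Rz L 3265920 := ⟨nets_iv, nets_rel, card, by norm_num, mside, by decide⟩

end Cfsg.Lib.Comp.U43x
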