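import Cfsg.Agent.Lib.Comp.U43x.Base

set_option maxRecDepth 100000
set_option Elab.async false

namespace Cfsg.Lib.Comp.U43x

universe u

noncomputable def T1_R : List (List ℕ × ℕ) := [([1],2),
 ([5],1),
 ([3],2),
 ([1,5],1),
 ([3,5],1),
 ([1,3,2,4],0),
 ([6],1),
 ([7],1),
 ([1,6],1),
 ([3,7],1),
 ([5,6],2),
 ([5,7],2),
 ([6,7],2),
 ([5,6,7],1),
 ([1,3,6,3,6,7,1,7],0),
 ([8],3),
 ([1,3,8,2,8,5],0),
 ([1,8,7,6,9,4],0),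
 ([1,5,6,5,9,9],0),
 ([10],1),
 ([5,10],1),
 ([6,10],2),
 ([7,10],2),
 ([8,10],2),
 ([3,5,9,10],1),
 ([1,2],0),
 ([3,4],0),
 ([8,9],0)]

noncomputable def T1_n_1 : Net :=
 (Net.cons 16 (nat_lit 0x7244)
 (Net.cons 8 (nat_lit 0x5c00d2)
 (Net.cons 4 (nat_lit 0x40604)
 (Net.cons 2 (nat_lit 0x220)
 (Net.cons 1 (nat_lit 0x5015140)
 (Net.cons 2 (nat_lit 0x11231302)
 (Net.cons 4 (nat_lit 0x701070c)
 (Net.cons 8 (nat_lit 0x29005c)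
 (Net.cons 16 (nat_lit 0x7998)
 Net.nil)))))))))

noncomputable def T1_n_3 : Net :=
 (Net.cons 16 (nat_lit 0xfbc8)
 (Net.cons 8 (nat_lit 0xa20084)
 (Net.cons 4 (nat_lit 0x20002)
 (Net.cons 2 (nat_lit 0x200200)
 (Net.cons 1 (nat_lit 0x54450410)
 (Net.cons 2 (nat_lit 0x11220300)
 (Net.cons 4 (nat_lit 0x20d0800)
 (Net.cons 8 (nat_lit 0x560088)
 (Net.cons 16 (nat_lit 0xfc88)
 Net.nil)))))))))

noncomputable def T1_n_5 : Net :=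
 (Net.cons 16 (nat_lit 0x2100)
 (Net.cons 8 (nat_lit 0x220000)
 (Net.cons 4 (nat_lit 0x20c0200)
 (Net.cons 2 (nat_lit 0x20200)
 (Net.cons 1 (nat_lit 0x1410154)
 (Net.cons 2 (nat_lit 0x2112200)
 (Net.cons 4 (nat_lit 0x30600)
 (Net.cons 8 (nat_lit 0x90000)
 (Net.cons 16 (nat_lit 0x2100)
 Net.nil)))))))))

noncomputable def T1_n_6 : Net :=
 (Net.cons 16 (nat_lit 0x2008)
 (Net.cons 8 (nat_lit 0x720056)
 (Net.cons 4 (nat_lit 0xa000c0a)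
 (Net.cons 2 (nat_lit 0x20202)
 (Net.cons 1 (nat_lit 0x51014454)
 (Net.cons 2 (nat_lit 0x30020202)
 (Net.cons 4 (nat_lit 0xa020d0a)
 (Net.cons 8 (nat_lit 0x760056)
 (Net.cons 16 (nat_lit 0x2008)
 Net.nil)))))))))

noncomputable def T1_n_7 : Net :=
 (Net.cons 16 (nat_lit 0x4210)
 (Net.cons 8 (nat_lit 0xe80008)
 (Net.cons 4 (nat_lit 0x6040a08)
 (Net.cons 2 (nat_lit 0x20200)
 (Net.cons 1 (nat_lit 0x45041110)
 (Net.cons 2 (nat_lit 0x3022002)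
 (Net.cons 4 (nat_lit 0x6050108)
 (Net.cons 8 (nat_lit 0xe8000c)
 (Net.cons 16 (nat_lit 0x4a10)
 Net.nil)))))))))

noncomputable def T1_n_8 : Net :=
 (Net.cons 16 (nat_lit 0xd1b0)
 (Net.cons 8 (nat_lit 0x82002c)
 (Net.cons 4 (nat_lit 0x6080000)
 (Net.cons 2 (nat_lit 0x220020)
 (Net.cons 1 (nat_lit 0x45141010)
 (Net.cons 2 (nat_lit 0x20200330)
 (Net.cons 4 (nat_lit 0x504010a)
 (Net.cons 8 (nat_lit 0x86000a)
 (Net.cons 16 (nat_lit 0xe29a)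
 Net.nil)))))))))

noncomputable def T1_n_10 : Net :=
 (Net.cons 16 (nat_lit 0xa08)
 (Net.cons 8 (nat_lit 0x500020)
 (Net.cons 4 (nat_lit 0xc0a0a0c)
 (Net.cons 1 (nat_lit 0x50010151)
 (Net.cons 2 (nat_lit 0x31202030)
 (Net.cons 4 (nat_lit 0xc0a0e0c)
 (Net.cons 8 (nat_lit 0x500020)
 (Net.cons 16 (nat_lit 0x1a08)
 Net.nil))))))))

noncomputable def T1_n : List Net := [Net.nil,
 T1_n_1,
 Net.rev T1_n_1,
 T1_n_3,
 Net.rev T1_n_3,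
 T1_n_5,
 T1_n_6,
 T1_n_7,
 T1_n_8,
 Net.rev T1_n_8,
 T1_n_10]

theorem T1_n_ok : NetsOK 32 T1_n := netsOK_of (by decide +kernel)

theorem T1_n_rel : Rels (gp T1_n) T1_R := rels_of_relsB (k := 5) T1_n_ok (by norm_num) (by decide +kernel)

theorem T1_fin : finB 32 T1_n [1,2,3,4,5,6,7,8,9,10] 30 (runH 32 T1_n (fun x p => ptInv (nth Net.nil T1_n x) p) iv T1_R [] ([1,2,3,4,5,6,7,8,9].map fun x => [x]) 0 []
  (apd [1,5,9,13,17,21,25,29,33,24,28,32,36,76,80,84,88,100,104,108,0,8,12,16,20,32,36,96,100,104,108,0,4,12,20,32,64,100,108,64,68,108,28,36,64,68,72,100,104,24,32,40,44,48,52,56,68,72,80,100]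
 (apd [104,108,0,4,16,20,24,28,36,44,48,56,60,64,68,72,92,100,104,108,4,12,16,20,24,36,40,44,52,56,60,64,68,72,76,80,84,96,100,104,108,0,8,12,20,32,36,64,68,76,80,84,88,92,96,108,76,92,96,104]
 [108,68,72,96,100,104]))
  (defsH 32 T1_n (ones 384) [10,1,2,3,4,6,7,8,9,10] (Nat.shiftLeft 1 0) 0)) = true := by decide +kernel

theorem T1_idx : Idx.{u} iv (T1_R ++ []) ([1,2,3,4,5,6,7,8,9].map fun x => [x]) [1,2,3,4,5,6,7,8,9,10] 30 :=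
  Reach.idx T1_n_ok (reach_runH T1_n_ok (fun x p _ => ptInv_gp T1_n_ok x p) T1_n_rel (reach_defsH T1_n_ok _ _ _ _ _ _) _ _) T1_fin (by norm_num)

end Cfsg.Lib.Comp.U43x
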