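import Cfsg.Agent.Lib.Comp.U43x.Base

set_option maxRecDepth 100000
set_option Elab.async false

namespace Cfsg.Lib.Comp.U43x

universe u

noncomputable def T2_R : List (List ℕ × ℕ) := [([1],2),
 ([5],1),
 ([3],2),
 ([1,5],1),
 ([3,5],1),
 ([1,3,2,4],0),
 ([6],1),
 ([7],1),
 ([1,6],1),
 ([3,7],1),
 ([5,6],2),
 ([5,7],2),
 ([6,7],2),
 ([5,6,7],1),
 ([1,3,6,3,6,7,1,7],0),
 ([8],3),
 ([1,3,8,2,8,5],0),
 ([1,8,7,6,9,4],0),
 ([1,5,6,5,9,9],0),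
 ([1,2],0),
 ([3,4],0),
 ([8,9],0)]

noncomputable def T2_n_8 : Net :=
 (Net.cons 1 (nat_lit 0x1)
 Net.nil)

noncomputable def T2_n : List Net := [Net.nil,
 Net.nil,
 Net.nil,
 Net.nil,
 Net.nil,
 Net.nil,
 Net.nil,
 Net.nil,
 T2_n_8,
 Net.rev T2_n_8]

theorem T2_n_ok : NetsOK 2 T2_n := netsOK_of (by decide +kernel)

theorem T2_n_rel : Rels (gp T2_n) T2_R := rels_of_relsB (k := 1) T2_n_ok (by norm_num) (by decide +kernel)

theorem T2_fin : finB 2 T2_n [1,2,3,4,5,6,7,8,9] 2 (runH 2 T2_n (fun x p => ptInv (nth Net.nil T2_n x) p) iv T2_R [] ([1,2,3,4,5,6,7].map fun x => [x]) 0 []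
  [1,5,9,13,17,21,25,84,72,84,64,76,68,80,64,72,68]
  (defsH 2 T2_n (ones 24) [8] (Nat.shiftLeft 1 0) 0)) = true := by decide +kernel

theorem T2_idx : Idx.{u} iv (T2_R ++ []) ([1,2,3,4,5,6,7].map fun x => [x]) [1,2,3,4,5,6,7,8,9] 2 :=
  Reach.idx T2_n_ok (reach_runH T2_n_ok (fun x p _ => ptInv_gp T2_n_ok x p) T2_n_rel (reach_defsH T2_n_ok _ _ _ _ _ _) _ _) T2_fin (by norm_num)

end Cfsg.Lib.Comp.U43x
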