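import Cfsg.Agent.Lib.Comp.U43x.Base

set_option maxRecDepth 100000
set_option Elab.async false

namespace Cfsg.Lib.Comp.U43x

universe u

noncomputable def T3_R : List (List ℕ × ℕ) := [([1],2),
 ([5],1),
 ([3],2),
 ([1,5],1),
 ([3,5],1),
 ([1,3,2,4],0),
 ([6],1),
 ([7],1),
 ([1,6],1),
 ([3,7],1),
 ([5,6],2),
 ([5,7],2),
 ([6,7],2),
 ([5,6,7],1),
 ([1,3,6,3,6,7,1,7],0),
 ([1,2],0),
 ([3,4],0)]

noncomputable def T3_n_1 : Net :=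
 (Net.cons 16 (nat_lit 0x2078)
 (Net.cons 8 (nat_lit 0xa400ac)
 (Net.cons 4 (nat_lit 0x8060800)
 (Net.cons 1 (nat_lit 0x10400)
 (Net.cons 2 (nat_lit 0x3012110)
 (Net.cons 4 (nat_lit 0x8060a04)
 (Net.cons 8 (nat_lit 0xa200ac)
 (Net.cons 16 (nat_lit 0x2078)
 Net.nil))))))))

noncomputable def T3_n_3 : Net :=
 (Net.cons 16 (nat_lit 0x22da)
 (Net.cons 8 (nat_lit 0x200058)
 (Net.cons 2 (nat_lit 0x20020)
 (Net.cons 1 (nat_lit 0x110040)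
 (Net.cons 2 (nat_lit 0x1101002)
 (Net.cons 4 (nat_lit 0x3040a)
 (Net.cons 8 (nat_lit 0x24005a)
 (Net.cons 16 (nat_lit 0x22da)
 Net.nil))))))))

noncomputable def T3_n_5 : Net :=
 (Net.cons 16 (nat_lit 0x2180)
 (Net.cons 8 (nat_lit 0x200094)
 (Net.cons 4 (nat_lit 0x6000800)
 (Net.cons 2 (nat_lit 0x20220000)
 (Net.cons 1 (nat_lit 0x41440500)
 (Net.cons 2 (nat_lit 0x20221300)
 (Net.cons 4 (nat_lit 0x6090806)
 (Net.cons 8 (nat_lit 0x20009c)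
 (Net.cons 16 (nat_lit 0x2180)
 Net.nil)))))))))

noncomputable def T3_n_6 : Net :=
 (Net.cons 16 (nat_lit 0x32e8)
 (Net.cons 8 (nat_lit 0xd400e8)
 (Net.cons 4 (nat_lit 0x2080400)
 (Net.cons 2 (nat_lit 0x20200020)
 (Net.cons 1 (nat_lit 0x11100011)
 (Net.cons 2 (nat_lit 0x20212320)
 (Net.cons 4 (nat_lit 0x6080400)
 (Net.cons 8 (nat_lit 0xd600ec)
 (Net.cons 16 (nat_lit 0x32e8)
 Net.nil)))))))))

noncomputable def T3_n_7 : Net :=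
 (Net.cons 16 (nat_lit 0x4c30)
 (Net.cons 8 (nat_lit 0xe20034)
 (Net.cons 4 (nat_lit 0x4040402)
 (Net.cons 2 (nat_lit 0x20020)
 (Net.cons 1 (nat_lit 0x40040)
 (Net.cons 2 (nat_lit 0x1021023)
 (Net.cons 4 (nat_lit 0xe050503)
 (Net.cons 8 (nat_lit 0xe600a1)
 (Net.cons 16 (nat_lit 0x4c30)
 Net.nil)))))))))

noncomputable def T3_n : List Net := [Net.nil,
 T3_n_1,
 Net.rev T3_n_1,
 T3_n_3,
 Net.rev T3_n_3,
 T3_n_5,
 T3_n_6,
 T3_n_7]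

theorem T3_n_ok : NetsOK 32 T3_n := netsOK_of (by decide +kernel)

theorem T3_n_rel : Rels (gp T3_n) T3_R := rels_of_relsB (k := 5) T3_n_ok (by norm_num) (by decide +kernel)

theorem T3_fin : finB 32 T3_n [1,2,3,4,5,6,7] 27 (runH 32 T3_n (fun x p => ptInv (nth Net.nil T3_n x) p) iv T3_R [] ([1,2,3,4,5].map fun x => [x]) 0 []
  [1,5,9,13,17,4,12,16,24,28,32,36,40,44,52,60,64,0,8,12,16,20,24,28,32,40,44,56,60,64,4,12,16,20,24,28,32,36,48,52,56,60,64,8,20,28,44,48]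
  (defsH 32 T3_n (ones 384) [6,7,1,2,3,4,5,6] (Nat.shiftLeft 1 0) 0)) = true := by decide +kernel

theorem T3_idx : Idx.{u} iv (T3_R ++ []) ([1,2,3,4,5].map fun x => [x]) [1,2,3,4,5,6,7] 27 :=
  Reach.idx T3_n_ok (reach_runH T3_n_ok (fun x p _ => ptInv_gp T3_n_ok x p) T3_n_rel (reach_defsH T3_n_ok _ _ _ _ _ _) _ _) T3_fin (by norm_num)

end Cfsg.Lib.Comp.U43x
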